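import Groth.Agent.NagataLib.IntClosure

/-!
# Finite expansions in a Nagata DVR of characteristic `p`

If `s ^ p = b`, `ϖ ^ p = π` and `s` is no polynomial in `ϖ` over the fraction field, then
`b = ∑_{i < w} πⁱ δᵢ^p + π^w β` with the residue of `β` no `p`-th power.
-/

set_option autoImplicit false

open IsLocalRing

namespace Groth.Agent.EtTrichotomy

universe u

variable {B Ω : Type u} [CommRing B] [IsDomain B] [IsDiscreteValuationRing B] [Field Ω] [Algebra B Ω]

theorem exists_expansion (hB : CAlg.IsNagata B) (hinj : Function.Injective (algebraMap B Ω))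
    {p : ℕ} [Fact p.Prime] [CharP Ω p] {π : B} (hπ : Irreducible π) {ϖ s : Ω} {b : B}
    (hϖ : ϖ ^ p = algebraMap B Ω π) (hs : s ^ p = algebraMap B Ω b) (hns : s ∉ Algebra.adjoin B {ϖ}) :
    ∃ (w : ℕ) (δ : ℕ → B) (β : B), b = ∑ i ∈ Finset.range w, π ^ i * δ i ^ p + π ^ w * β ∧
      ∀ γ : B, β - γ ^ p ∉ maximalIdeal B := by
  classical
  have hp : p.Prime := Fact.out
  by_contra! hcon
  have hall : ∀ w, ∃ (δ : ℕ → B) (β : B), b = ∑ i ∈ Finset.range w, π ^ i * δ i ^ p + π ^ w * β := by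
    intro w
    induction w with
    | zero => exact ⟨fun _ => 0, b, by simp⟩
    | succ w ih =>
      obtain ⟨δ, β, hb⟩ := ih
      obtain ⟨γ, hγ⟩ := hcon w δ β hb
      rw [hπ.maximalIdeal_eq, Ideal.mem_span_singleton] at hγ
      obtain ⟨β', hβ'⟩ := hγ
      refine ⟨Function.update δ w γ, β', ?_⟩
      rw [Finset.sum_range_succ, Function.update_self, Finset.sum_congr rfl (g := fun i => π ^ i * δ i ^ p)
        fun i hi => by rw [Function.update_of_ne (Finset.mem_range.mp hi).ne], hb, sub_eq_iff_eq_add.mp hβ']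
      ring
  haveI := hB.1
  have hϖ0 : ϖ ≠ 0 := fun h => hπ.ne_zero (hinj (by rw [← hϖ, h, zero_pow hp.ne_zero, map_zero]))
  set C := Algebra.adjoin B ({ϖ, s, ϖ⁻¹} : Set Ω) with hC
  haveI : Algebra.FiniteType B C := ⟨Subalgebra.fg_top _ |>.mpr (Subalgebra.fg_def.mpr
    ⟨_, Set.toFinite _, rfl⟩)⟩
  haveI := NagataLib.finite_integralClosure_domain hB C
  set R := integralClosure B C
  have hint : ∀ z : Ω, ∀ a : B, z ^ p = algebraMap B Ω a → IsIntegral B z := fun z a h =>
    ⟨Polynomial.X ^ p - Polynomial.C a, Polynomial.monic_X_pow_sub_C a hp.ne_zero, by simp [h]⟩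
  have memR : ∀ (z : Ω), z ∈ C → IsIntegral B z → ∃ r : R, ((r : C) : Ω) = z := fun z hz hzi =>
    ⟨⟨⟨z, hz⟩, (isIntegral_algHom_iff C.val Subtype.val_injective).mp hzi⟩, rfl⟩
  have hϖC : ϖ ∈ C := Algebra.subset_adjoin (by simp)
  have hsC : s ∈ C := Algebra.subset_adjoin (by simp)
  have hiC : ϖ⁻¹ ∈ C := Algebra.subset_adjoin (by simp)
  obtain ⟨rs, hrs⟩ := memR s hsC (hint s b hs)
  let φ : R →ₗ[B] Ω := C.val.toLinearMap.comp R.val.toLinearMap
  let N : Submodule B R := (Subalgebra.toSubmodule (Algebra.adjoin B {ϖ})).comap φ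
  have hmem : ∀ v : ℕ, Submodule.Quotient.mk rs ∈ (maximalIdeal B ^ v • ⊤ : Submodule B (R ⧸ N)) := by
    intro v
    obtain ⟨δ, β, hb⟩ := hall (p * v)
    set T : Ω := ∑ i ∈ Finset.range (p * v), ϖ ^ i * algebraMap B Ω (δ i)
    have hT : (s - T) ^ p = algebraMap B Ω (π ^ (p * v) * β) := by
      have hsum : ∑ i ∈ Finset.range (p * v), (ϖ ^ i * algebraMap B Ω (δ i)) ^ p =
          ∑ i ∈ Finset.range (p * v), algebraMap B Ω (π ^ i * δ i ^ p) := Finset.sum_congr rfl fun i _ => by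
        rw [mul_pow, ← pow_mul, mul_comm i, pow_mul, hϖ, map_mul, map_pow, map_pow]
      rw [sub_pow_char, sum_pow_char, hs, hb, map_add, map_sum, hsum, add_sub_cancel_left]
    set e : Ω := (s - T) * (ϖ⁻¹) ^ (p * v)
    have he : e ^ p = algebraMap B Ω β := by
      have h1 : ((ϖ⁻¹) ^ (p * v)) ^ p = (algebraMap B Ω π ^ (p * v))⁻¹ := by
        rw [← pow_mul, mul_comm (p * v) p, pow_mul, inv_pow, hϖ, inv_pow]
      rw [mul_pow, hT, h1, map_mul, map_pow]
      have : algebraMap B Ω π ≠ 0 := fun h => hπ.ne_zero (hinj (h.trans (map_zero _).symm))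
      field_simp
    have hTC : T ∈ C := sum_mem fun i _ => mul_mem (pow_mem hϖC i) (algebraMap_mem C _)
    obtain ⟨re, hre⟩ := memR e (mul_mem (sub_mem hsC hTC) (pow_mem hiC _)) (hint e β he)
    have hN : rs - π ^ v • re ∈ N := by
      show φ (rs - π ^ v • re) ∈ Algebra.adjoin B {ϖ}
      have : φ (rs - π ^ v • re) = T := by
        rw [map_sub, map_smul]
        show ((rs : C) : Ω) - π ^ v • ((re : C) : Ω) = T
        rw [hrs, hre, Algebra.smul_def, map_pow, ← hϖ, ← pow_mul]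
        simp only [e, inv_pow]
        field_simp
        ring
      rw [this]
      exact sum_mem fun i _ => mul_mem (pow_mem (Algebra.self_mem_adjoin_singleton B ϖ) i) (algebraMap_mem _ _)
    rw [(Submodule.Quotient.eq N).mpr hN, Submodule.Quotient.mk_smul]
    exact Submodule.smul_mem_smul (Ideal.pow_mem_pow ((mem_maximalIdeal _).2 hπ.not_isUnit) v) Submodule.mem_top
  have h0 : (Submodule.Quotient.mk rs : R ⧸ N) = 0 := by
    have h := Ideal.iInf_pow_smul_eq_bot_of_isLocalRing (M := R ⧸ N) (maximalIdeal B) (maximalIdeal.isMaximal B).ne_top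
    exact (Submodule.mem_bot B).mp (h ▸ (Submodule.mem_iInf _).mpr hmem)
  exact hns (hrs ▸ (Submodule.Quotient.mk_eq_zero N).mp h0)

end Groth.Agent.EtTrichotomy
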