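import Groth.Agent.EtTrichotomy.Main

/-!
# Assembling the trichotomy
-/

set_option autoImplicit false

open IsLocalRing Polynomial
open scoped TensorProduct

namespace Groth.Agent.EtTrichotomy

universe u

section PureInsep

variable {L M : Type u} [Field L] [Field M] [Algebra L M] [IsPurelyInseparable L M] {p : ℕ}

theorem expChar_and_pow_mem (hp : p.Prime) (hdeg : Module.finrank L M = p) :
    CharP L p ∧ ∀ z : M, z ^ p ∈ (algebraMap L M).range := by
  let q := ringExpChar L
  haveI : FiniteDimensional L M := Module.finite_of_finrank_pos (hdeg ▸ hp.pos)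
  obtain ⟨n, hn⟩ := IsPurelyInseparable.finrank_eq_pow L M q
  rw [hdeg] at hn
  have hqn : q = p ∧ n = 1 := by
    rcases expChar_is_prime_or_one L q with hq | hq
    · exact (Nat.Prime.pow_eq_iff hp).mp hn.symm
    · rw [hq, one_pow] at hn; exact absurd hn hp.ne_one
  haveI : ExpChar L p := hqn.1 ▸ (inferInstance : ExpChar L q)
  refine ⟨?_, fun z => ?_⟩
  · rcases ‹ExpChar L p› with _ | ⟨_⟩
    · exact absurd rfl hp.ne_one
    · assumption
  · obtain ⟨m, y, hm⟩ := IsPurelyInseparable.minpoly_eq_X_pow_sub_C L p z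
    have hd : p ^ m ≤ p := by
      have := minpoly.natDegree_le (A := L) z
      rwa [hm, natDegree_X_pow_sub_C, hdeg] at this
    have hz := minpoly.aeval L z
    rw [hm, map_sub, map_pow, aeval_X, aeval_C, sub_eq_zero] at hz
    rcases Nat.lt_or_ge m 2 with hm2 | hm2
    · interval_cases m
      · refine ⟨y ^ p, ?_⟩
        rw [pow_zero, pow_one] at hz
        rw [map_pow, hz]
      · exact ⟨y, by rw [pow_one] at hz; exact hz.symm⟩
    · have h1 : p ^ 2 ≤ p := (Nat.pow_le_pow_right hp.pos hm2).trans hd
      have := hp.two_le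
      nlinarith

end PureInsep

/-- If `M` receives `C` and a root `x` of `X ^ p - π ^ (N+1) X - π`, with `N` large, then `x` generates the
maximal ideal of every dominating valuation subring. -/
theorem exists_unit_residue {B L M : Type u} [CommRing B] [IsDomain B] [IsDiscreteValuationRing B]
    [Field L] [Algebra B L] [IsFractionRing B L] [Field M] [Algebra L M] {p : ℕ} [Fact p.Prime] [CharP M p]
    {π : B} (hπ : Irreducible π) {b β : B} {δ : ℕ → B} {w : ℕ}
    (hb : b = ∑ i ∈ Finset.range w, π ^ i * δ i ^ p + π ^ w * β) {γ x : M}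
    (hγ : γ ^ p = bmap B L M (π * b))
    (hx : x ^ p - bmap B L M π ^ (w + 1 + 1) * x - bmap B L M π = 0) {W : ValuationSubring M}
    (hW : EtRam.Dominates B (bmap B L M) W) :
    ∃ d : M, W.valuation (d ^ p - bmap B L M β) < 1 := by
  have hp : p.Prime := Fact.out
  obtain ⟨h, heq, hx1⟩ := hyp_of_root hπ hp.one_lt hx hW
  set f := bmap B L M
  set P := f π
  set u := 1 + P ^ (w + 1) * x with hu
  have hP0 : P ≠ 0 := fun e => hπ.ne_zero (bmap_injective (e.trans (map_zero _).symm))
  have hPlt : W.valuation P < 1 := hW.2 π ((mem_maximalIdeal _).2 hπ.not_isUnit)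
  have hPpos : 0 < W.valuation P := pos_of_ne_zero ((_root_.map_ne_zero W.valuation).mpr hP0)
  set ε := W.valuation P ^ (w + 1) with hεdef
  have hεlt : ε < 1 := pow_lt_one₀ zero_le hPlt (by omega)
  have hu1 : W.valuation (u - 1) ≤ ε := by
    rw [hu, add_sub_cancel_left, map_mul, map_pow]
    exact mul_le_of_le_one_right' hx1.le
  have huv : W.valuation u = 1 := by
    rw [← sub_add_cancel u 1, W.valuation.map_add_eq_of_lt_right (by rw [map_one]; exact hu1.trans_lt hεlt), map_one]
  have hu0 : u ≠ 0 := fun e => by rw [e, map_zero] at huv; exact zero_ne_one huv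
  have hupow : ∀ n : ℕ, W.valuation (u ^ n - 1) ≤ ε := fun n => by
    induction n with
    | zero => simp
    | succ n ih =>
      rw [show u ^ (n + 1) - 1 = (u ^ n - 1) * u + (u - 1) by ring]
      exact W.valuation.map_add_le (by rwa [map_mul, huv, mul_one]) hu1
  have hx0 : x ≠ 0 := h.x_ne_zero hπ hp.ne_zero
  set S := ∑ i ∈ Finset.range w, x ^ i * f (δ i)
  refine ⟨(γ / x - S) / x ^ w, ?_⟩
  have hγx : (γ / x) ^ p = f b / u := by
    rw [div_pow, hγ, heq, map_mul]
    show P * f b / (P * u) = f b / u
    field_simp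
  have hS : S ^ p = ∑ i ∈ Finset.range w, P ^ i * u ^ i * f (δ i) ^ p := by
    rw [sum_pow_char]
    refine Finset.sum_congr rfl fun i _ => ?_
    rw [mul_pow, ← pow_mul, mul_comm i, pow_mul, heq, mul_pow]
  have hfb : f b = ∑ i ∈ Finset.range w, P ^ i * f (δ i) ^ p + P ^ w * f β := by
    rw [hb, map_add, map_sum, map_mul, map_pow]
    simp only [map_mul, map_pow]
    rfl
  set E := f b / u - f b + ∑ i ∈ Finset.range w, P ^ i * f (δ i) ^ p * (1 - u ^ i) with hEdef
  have hE : W.valuation E ≤ ε := by
    refine W.valuation.map_add_le ?_ (W.valuation.map_sum_le fun i _ => ?_)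
    · rw [show f b / u - f b = f b * -(u - 1) / u by field_simp; ring, map_div₀, huv, div_one, map_mul,
        Valuation.map_neg]
      exact (mul_le_of_le_one_left' (h.val_b_le b)).trans hu1
    · rw [map_mul, ← map_pow f π i, ← map_pow f (δ i) p, ← map_mul f, Valuation.map_sub_swap]
      exact (mul_le_of_le_one_left' (h.val_b_le _)).trans (hupow i)
  have hd : ((γ / x - S) / x ^ w) ^ p = (P ^ w * f β + E) / (P ^ w * u ^ w) := by
    rw [div_pow, sub_pow_char, hγx, hS, ← pow_mul, mul_comm w p, pow_mul, heq, mul_pow, hEdef]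
    congr 1
    simp only [mul_sub, mul_one, Finset.sum_sub_distrib]
    rw [show ∑ i ∈ Finset.range w, P ^ i * u ^ i * f (δ i) ^ p =
      ∑ i ∈ Finset.range w, P ^ i * f (δ i) ^ p * u ^ i from Finset.sum_congr rfl fun i _ => by ring]
    linear_combination hfb
  rw [hd, show (P ^ w * f β + E) / (P ^ w * u ^ w) - f β =
    (f β * -(u ^ w - 1) + E / P ^ w) / u ^ w by field_simp; ring, map_div₀, map_pow, huv, one_pow, div_one]
  refine W.valuation.map_add_lt ?_ ?_
  · rw [map_mul, Valuation.map_neg]
    exact (mul_le_of_le_one_left' (h.val_b_le β)).trans_lt ((hupow w).trans_lt hεlt)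
  · rw [map_div₀, map_pow, div_lt_one₀ (pow_pos hPpos w)]
    refine hE.trans_lt ?_
    rw [hεdef, pow_succ]
    exact mul_lt_of_lt_one_right (pow_pos hPpos w) hPlt

theorem trichotomy (p : ℕ) (hp : p.Prime) (A B C K L M : Type u)
    [CommRing A] [IsDomain A] [IsDiscreteValuationRing A] [CommRing B] [IsDomain B] [IsDiscreteValuationRing B]
    [CommRing C] [IsDomain C] [IsDiscreteValuationRing C]
    [Algebra A B] [Algebra B C] [Algebra A C] [IsScalarTower A B C]
    (hAB : Function.Injective (algebraMap A B)) (hBC : Function.Injective (algebraMap B C))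
    [IsLocalHom (algebraMap A B)] [IsLocalHom (algebraMap B C)]
    [Field K] [Field L] [Field M] [Algebra A K] [IsFractionRing A K] [Algebra B L] [IsFractionRing B L]
    [Algebra C M] [IsFractionRing C M] [Algebra K L] [Algebra L M] [Algebra K M] [IsScalarTower K L M]
    [Algebra A L] [IsScalarTower A K L] [IsScalarTower A B L] [Algebra B M] [IsScalarTower B L M] [IsScalarTower B C M]
    [Algebra A M] [IsScalarTower A K M] [IsScalarTower A C M]
    (π : A) (hπ : IsLocalRing.maximalIdeal A = Ideal.span {π}) (hB : CAlg.IsNagata B)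
    (hw : EtRam.IsWeaklyUnramified A B) [IsPurelyInseparable L M] (hdeg : Module.finrank L M = p) :
    EtRam.IsWeaklyUnramified A C ∨
      (∃ c : C, c ^ p = algebraMap A C π ∧ Algebra.adjoin B {c} = ⊤) ∨
      ∃ (K₁ : Type u) (_ : Field K₁) (_ : Algebra K K₁),
        Module.finrank K K₁ = p ∧ Algebra.IsSeparable K K₁ ∧
          EtRam.IsTotallyRamified A ((algebraMap K K₁).comp (algebraMap A K)) ∧
          IsField (L ⊗[K] K₁) ∧ IsField (M ⊗[K] K₁) ∧
          EtRam.IsWeakSolution C K M K₁ := by
  haveI : Fact p.Prime := ⟨hp⟩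
  haveI : FiniteDimensional L M := Module.finite_of_finrank_pos (hdeg ▸ hp.pos)
  obtain ⟨hchar, hpow⟩ := expChar_and_pow_mem (L := L) (M := M) hp hdeg
  have hπA : Irreducible π := (IsDiscreteValuationRing.irreducible_iff_uniformizer π).mpr hπ
  set π' := algebraMap A B π
  have hmB : maximalIdeal B = Ideal.span {π'} := by
    rw [← hw, hπ, Ideal.map_span, Set.image_singleton]
  have hπB : Irreducible π' := (IsDiscreteValuationRing.irreducible_iff_uniformizer π').mpr hmB
  set P := algebraMap B C π' with hPdef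
  have hPA : P = algebraMap A C π := (IsScalarTower.algebraMap_apply A B C π).symm
  obtain ⟨g, hg⟩ := IsDiscreteValuationRing.exists_irreducible C
  have hP0 : P ≠ 0 := fun h => hπB.ne_zero (hBC (h.trans (map_zero _).symm))
  obtain ⟨e, ue, hue⟩ := IsDiscreteValuationRing.eq_unit_mul_pow_irreducible hP0 hg
  have hPnu : ¬IsUnit P := fun h => hπB.not_isUnit ((isUnit_map_iff (algebraMap B C) π').mp h)
  rcases eq_or_ne e 1 with he1 | he1
  · left
    unfold EtRam.IsWeaklyUnramified
    rw [hπ, Ideal.map_span, Set.image_singleton, ← hPA, hg.maximalIdeal_eq, hue, he1, pow_one,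
      Ideal.span_singleton_mul_left_unit ue.isUnit]
  have he0 : e ≠ 0 := fun h => hPnu (by rw [hue, h, pow_zero, mul_one]; exact ue.isUnit)
  -- the `p`-th power of a uniformizer
  obtain ⟨y, hy⟩ := hpow (algebraMap C M g)
  have hg0 : algebraMap C M g ≠ 0 := fun h => hg.ne_zero (IsFractionRing.injective C M (h.trans (map_zero _).symm))
  have hy0 : y ≠ 0 := fun h => pow_ne_zero p hg0 (by rw [← hy, h, map_zero])
  obtain ⟨b, k, hb, hyk⟩ := exists_unit_zpow hπB hy0
  have hcompat : ∀ r : B, algebraMap L M (algebraMap B L r) = algebraMap C M (algebraMap B C r) := fun r => by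
    rw [← IsScalarTower.algebraMap_apply B L M, ← IsScalarTower.algebraMap_apply B C M]
  rw [hyk, map_mul, map_zpow₀, hcompat, hcompat] at hy
  have hbC : IsUnit (algebraMap B C b) := hb.map _
  have hek : e = p ∧ k = 1 := by
    obtain ⟨n, rfl | rfl⟩ := Int.eq_nat_or_neg k
    · rw [zpow_natCast, ← map_pow (algebraMap C M), ← map_mul (algebraMap C M), ← map_pow (algebraMap C M)] at hy
      have h1 : (((hbC.unit * ue ^ n : Cˣ)) : C) * g ^ (e * n) = ((1 : Cˣ) : C) * g ^ p := by
        rw [← IsFractionRing.injective C M hy, Units.val_one, one_mul, ← hPdef, hue, Units.val_mul, IsUnit.unit_spec,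
          Units.val_pow_eq_pow_val, mul_pow, ← pow_mul, mul_assoc]
      have h2 : e * n = p :=
        (IsDiscreteValuationRing.unit_mul_pow_congr_pow hg hg _ _ _ _ h1)
      rcases (Nat.dvd_prime hp).mp ⟨n, h2.symm⟩ with h | h
      · exact absurd h he1
      · refine ⟨h, ?_⟩
        have : p * n = p * 1 := by rw [mul_one]; exact h ▸ h2
        exact_mod_cast Nat.eq_of_mul_eq_mul_left hp.pos this
    · exfalso
      have h1 : algebraMap B C b = g ^ p * P ^ n := by
        apply IsFractionRing.injective C M
        rw [map_mul, map_pow, map_pow, ← hy, ← hPdef, zpow_neg, zpow_natCast, inv_mul_cancel_right₀ (pow_ne_zero _ ?_)]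
        exact fun h => hP0 (IsFractionRing.injective C M (h.trans (map_zero _).symm))
      rw [h1] at hbC
      exact hg.not_isUnit (isUnit_pow_iff hp.ne_zero |>.mp (isUnit_of_mul_isUnit_left hbC))
  obtain ⟨rfl, rfl⟩ := hek
  rw [zpow_one, ← map_mul] at hy
  have hgp : g ^ e = algebraMap B C b * P := IsFractionRing.injective C M (by rw [map_pow]; exact hy.symm)
  right
  by_cases hroot : ∃ c : M, c ^ e = algebraMap C M P
  · left
    obtain ⟨c₀, hc₀⟩ := hroot
    obtain ⟨c, rfl⟩ := IsIntegrallyClosed.isIntegral_iff.1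
      (show IsIntegral C c₀ from ⟨X ^ e - Polynomial.C P, monic_X_pow_sub_C _ hp.ne_zero, by simp [hc₀]⟩)
    have hc : c ^ e = P := IsFractionRing.injective C M (by rw [map_pow]; exact hc₀)
    refine ⟨c, hc.trans hPA, ?_⟩
    obtain ⟨W, hW⟩ := exists_dominates C M (algebraMap C M)
    have hWB : EtRam.Dominates B (bmap B L M) W := by
      refine ⟨fun r => ?_, fun r hr => ?_⟩
      · show algebraMap L M (algebraMap B L r) ∈ W
        rw [hcompat]; exact hW.1 _
      · show W.valuation (algebraMap L M (algebraMap B L r)) < 1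
        rw [hcompat]; exact hW.2 _ (map_nonunit (algebraMap B C) r hr)
    set cM := algebraMap C M c
    have hcP : cM ^ e = bmap B L M π' := by
      rw [← map_pow, hc]; exact (hcompat π').symm
    have hyp : Hyp (L := L) π' e cM W := ⟨hWB, by
      rw [hcP, div_self, sub_self, map_zero]
      · exact zero_lt_one
      · exact fun h => hπB.ne_zero (bmap_injective (h.trans (map_zero _).symm))⟩
    rw [eq_top_iff]
    intro z _
    obtain ⟨l, hl⟩ := eq_sum_pow hπB hp.ne_zero hyp hdeg (algebraMap C M z)
    rcases eq_or_ne z 0 with rfl | hz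
    · exact Subalgebra.zero_mem _
    obtain ⟨n, _, -, hint, hWv⟩ := exists_leading hπB hp.ne_zero cM l (by
      by_contra! h0
      refine hz (IsFractionRing.injective C M ?_)
      rw [hl, map_zero]
      exact Finset.sum_eq_zero fun i _ => by rw [h0 i, map_zero, zero_mul])
    have h1 := (hWv W hyp).1
    rw [← hl] at h1
    choose a ha using hint (nonneg_of_zpow_le_one (hyp.val_x_pos hπB hp.ne_zero) (hyp.val_x_lt hπB hp.ne_zero)
      (h1 ▸ (W.valuation_le_one_iff _).mpr (hW.1 z)))
    have hz' : z = ∑ i, algebraMap B C (a i) * c ^ (i : ℕ) := IsFractionRing.injective C M (by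
      rw [hl, map_sum]
      exact Finset.sum_congr rfl fun i _ => by rw [map_mul, map_pow, ← ha i, hcompat])
    rw [hz']
    exact Subalgebra.sum_mem _ fun i _ => Subalgebra.mul_mem _ (Subalgebra.algebraMap_mem _ _)
      (Subalgebra.pow_mem _ (Algebra.self_mem_adjoin_singleton B c) _)
  right
  -- the expansion of `b`
  haveI : CharP M e := charP_of_injective_algebraMap (algebraMap L M).injective e
  let Ω := AlgebraicClosure M
  haveI : CharP Ω e := charP_of_injective_algebraMap (algebraMap M Ω).injective e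
  have hbΩ : ∀ r : B, algebraMap M Ω (bmap B L M r) = algebraMap B Ω r := fun r => by
    show algebraMap M Ω (algebraMap L M (algebraMap B L r)) = _
    rw [← IsScalarTower.algebraMap_apply B L M, ← IsScalarTower.algebraMap_apply B M Ω]
  haveI : IsScalarTower B L Ω := IsScalarTower.of_algebraMap_eq fun r => by
    rw [IsScalarTower.algebraMap_apply L M Ω]; exact (hbΩ r).symm
  have hinjΩ : Function.Injective (algebraMap B Ω) := fun r r' h => bmap_injective
    ((algebraMap M Ω).injective (by rw [hbΩ, hbΩ, h]))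
  obtain ⟨ϖ, hϖ⟩ := IsAlgClosed.exists_pow_nat_eq (algebraMap B Ω π') hp.pos
  set gΩ := algebraMap M Ω (algebraMap C M g)
  have hπΩ : algebraMap B Ω π' ≠ 0 := fun h => hπB.ne_zero (hinjΩ (h.trans (map_zero _).symm))
  have hgb : algebraMap C M g ^ e = bmap B L M (π' * b) := by
    rw [← map_pow, hgp]
    show _ = algebraMap L M (algebraMap B L (π' * b))
    rw [hcompat, map_mul (algebraMap B C), mul_comm]
  have hs : (gΩ / ϖ) ^ e = algebraMap B Ω b := by
    rw [div_pow, hϖ, ← map_pow, hgb, hbΩ]
    rw [map_mul, mul_div_cancel_left₀ _ hπΩ]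
  have hns : gΩ / ϖ ∉ Algebra.adjoin B {ϖ} := by
    intro hmem
    have hle : Algebra.adjoin B {ϖ} ≤ (IntermediateField.adjoin L {ϖ}).toSubalgebra.restrictScalars B :=
      Algebra.adjoin_le (Set.singleton_subset_iff.mpr (IntermediateField.mem_adjoin_simple_self L ϖ))
    set T := IntermediateField.adjoin L {ϖ}
    have hϖ0 : ϖ ≠ 0 := fun h => hπΩ (by rw [← hϖ, h, zero_pow hp.ne_zero])
    have hgT : gΩ ∈ T := by
      have := T.mul_mem (hle hmem) (IntermediateField.mem_adjoin_simple_self L ϖ)
      rwa [div_mul_cancel₀ _ hϖ0] at this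
    let j : M →ₐ[L] Ω := IsScalarTower.toAlgHom L M Ω
    have hint : IsIntegral L ϖ := ⟨X ^ e - Polynomial.C (algebraMap B L π'), monic_X_pow_sub_C _ hp.ne_zero, by
      simp [hϖ, ← IsScalarTower.algebraMap_apply]⟩
    haveI := IntermediateField.adjoin.finiteDimensional hint
    have hT : Module.finrank L T ≤ e := by
      rw [IntermediateField.adjoin.finrank hint]
      refine (natDegree_le_of_dvd (minpoly.dvd L ϖ (p := X ^ e - Polynomial.C (algebraMap B L π'))
        (by simp [hϖ, ← IsScalarTower.algebraMap_apply])) (X_pow_sub_C_ne_zero hp.pos _)).trans ?_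
      rw [natDegree_X_pow_sub_C]
    have hgL : algebraMap C M g ∉ (⊥ : IntermediateField L M) := by
      intro h
      obtain ⟨r, hr⟩ := IntermediateField.mem_bot.mp h
      have hr0 : r ≠ 0 := fun h0 => hg0 (by rw [← hr, h0, map_zero])
      obtain ⟨b', k', hb', rfl⟩ := exists_unit_zpow hπB hr0
      rw [map_mul, map_zpow₀, hcompat, hcompat] at hr
      have hb'C : IsUnit (algebraMap B C b') := hb'.map _
      obtain ⟨n, rfl | rfl⟩ := Int.eq_nat_or_neg k'
      · rw [zpow_natCast, ← map_pow (algebraMap C M), ← map_mul (algebraMap C M)] at hr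
        have h1 : (((hb'C.unit * ue ^ n : Cˣ)) : C) * g ^ (e * n) = ((1 : Cˣ) : C) * g ^ 1 := by
          rw [Units.val_one, one_mul, pow_one]
          conv_rhs => rw [← IsFractionRing.injective C M hr, ← hPdef, hue]
          rw [Units.val_mul, IsUnit.unit_spec, Units.val_pow_eq_pow_val, mul_pow, ← pow_mul, mul_assoc]
        exact hp.ne_one (Nat.eq_one_of_mul_eq_one_right (IsDiscreteValuationRing.unit_mul_pow_congr_pow hg hg _ _ _ _ h1))
      · have h1 : algebraMap B C b' = g * P ^ n := by
          apply IsFractionRing.injective C M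
          rw [map_mul, map_pow, ← hr, ← hPdef, zpow_neg, zpow_natCast, inv_mul_cancel_right₀ (pow_ne_zero _ ?_)]
          exact fun h => hP0 (IsFractionRing.injective C M (h.trans (map_zero _).symm))
        rw [h1] at hb'C
        exact hg.not_isUnit (isUnit_of_mul_isUnit_left hb'C)
    have htop : IntermediateField.adjoin L {algebraMap C M g} = ⊤ := by
      haveI : IsSimpleOrder (IntermediateField L M) := IntermediateField.isSimpleOrder_of_finrank_prime L M (hdeg ▸ hp)
      exact (IsSimpleOrder.eq_bot_or_eq_top _).resolve_left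
        fun h => hgL (h ▸ IntermediateField.mem_adjoin_simple_self L _)
    have hjle : j.fieldRange ≤ T := by
      rw [AlgHom.fieldRange_eq_map, ← htop, IntermediateField.adjoin_map, Set.image_singleton]
      exact IntermediateField.adjoin_simple_le_iff.mpr hgT
    have heq : j.fieldRange = T := IntermediateField.eq_of_le_of_finrank_le hjle (by
      show Module.finrank L T ≤ Module.finrank L j.range
      rw [← (AlgEquiv.ofInjectiveField j).toLinearEquiv.finrank_eq, hdeg]
      exact hT)
    obtain ⟨c, hc⟩ : ϖ ∈ j.fieldRange := heq ▸ IntermediateField.mem_adjoin_simple_self L ϖ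
    refine hroot ⟨c, (algebraMap M Ω).injective ?_⟩
    rw [map_pow, show algebraMap M Ω c = ϖ from hc, hϖ, ← hbΩ]
    exact congrArg _ (hcompat π')
  obtain ⟨w, δ, β, hexp, hβ⟩ := exists_expansion hB hinjΩ hπB hϖ hs hns
  -- the polynomial
  let fA : A[X] := X ^ e - Polynomial.C (π ^ (w + 1 + 1)) * X - Polynomial.C π
  have hdeg_small : (Polynomial.C (π ^ (w + 1 + 1)) * X + Polynomial.C π).degree < (e : WithBot ℕ) :=
    degree_linear_le.trans_lt (by exact_mod_cast hp.one_lt)
  have hfA : fA.Monic := by
    rw [show fA = X ^ e - (Polynomial.C (π ^ (w + 1 + 1)) * X + Polynomial.C π) by simp only [fA]; ring]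
    exact monic_X_pow_sub hdeg_small
  have hnA : fA.natDegree = e := by
    refine natDegree_eq_of_degree_eq_some ?_
    rw [show fA = X ^ e - (Polynomial.C (π ^ (w + 1 + 1)) * X + Polynomial.C π) by simp only [fA]; ring,
      degree_sub_eq_left_of_degree_lt (by rw [degree_X_pow]; exact hdeg_small), degree_X_pow]
  let fK := fA.map (algebraMap A K)
  have hfK : fK.Monic := hfA.map _
  have hnK : fK.natDegree = e := by rw [hfA.natDegree_map, hnA]
  have hrel : ∀ (E : Type u) [Field E] [Algebra K E] (ψ : L →+* E) (_ : ψ.comp (algebraMap K L) = algebraMap K E) (x : E),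
      aeval x fK = 0 → x ^ e - ψ (algebraMap B L π') ^ (w + 1 + 1) * x - ψ (algebraMap B L π') = 0 := by
    intro E _ _ ψ hψ x hx
    have hc : algebraMap K E (algebraMap A K π) = ψ (algebraMap B L π') := by
      rw [← hψ, RingHom.comp_apply, ← IsScalarTower.algebraMap_apply A K L, IsScalarTower.algebraMap_apply A B L]
    simpa [fK, fA, hc] using hx
  -- the key computation
  have key : ∀ (M₁ : Type u) [Field M₁] [Algebra M M₁] [Algebra K M₁] [IsScalarTower K M M₁] (x : M₁),
      aeval x fK = 0 → IntermediateField.adjoin M {x} = ⊤ →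
      Irreducible (fK.map (algebraMap K M)) ∧ ∀ W : ValuationSubring M₁,
        EtRam.Dominates C ((algebraMap M M₁).comp (algebraMap C M)) W →
          0 < W.valuation x ∧ W.valuation x < 1 ∧ ∀ z : M₁, z ≠ 0 → ∃ n : ℤ, W.valuation z = W.valuation x ^ n := by
    intro M₁ _ _ _ _ x hx htop
    letI : Algebra L M₁ := ((algebraMap M M₁).comp (algebraMap L M)).toAlgebra
    haveI : IsScalarTower L M M₁ := IsScalarTower.of_algebraMap_eq fun _ => rfl
    haveI : CharP M₁ e := charP_of_injective_algebraMap (algebraMap M M₁).injective e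
    have hfM : (fK.map (algebraMap K M)).Monic := hfK.map _
    have hxM : aeval x (fK.map (algebraMap K M)) = 0 := by rw [aeval_map_algebraMap, hx]
    have hint : IsIntegral M x := ⟨_, hfM, by rw [← aeval_def, hxM]⟩
    have hmin : (minpoly M x).natDegree ≤ e := by
      refine (natDegree_le_of_dvd (minpoly.dvd M x hxM) hfM.ne_zero).trans ?_
      rw [hfK.natDegree_map, hnK]
    haveI : FiniteDimensional M M₁ := by
      haveI := IntermediateField.adjoin.finiteDimensional hint
      rw [htop] at this
      exact Module.Finite.equiv (IntermediateField.topEquiv (F := M) (E := M₁)).toLinearEquiv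
    have hM₁ : Module.finrank M M₁ = (minpoly M x).natDegree := by
      rw [← IntermediateField.adjoin.finrank hint, htop, IntermediateField.finrank_top']
    haveI : FiniteDimensional L M₁ := FiniteDimensional.trans L M M₁
    have hdimL : Module.finrank L M₁ = e * (minpoly M x).natDegree := by
      rw [← Module.finrank_mul_finrank L M M₁, hdeg, hM₁]
    have hx' := hrel M₁ (algebraMap L M₁) (by
      rw [IsScalarTower.algebraMap_eq K M M₁, IsScalarTower.algebraMap_eq K L M]; rfl) x hx
    have hgM₁ : (algebraMap M M₁ (algebraMap C M g)) ^ e = bmap B L M₁ (π' * b) := by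
      rw [← map_pow, hgb]; rfl
    have hWB : ∀ W : ValuationSubring M₁, EtRam.Dominates C ((algebraMap M M₁).comp (algebraMap C M)) W →
        EtRam.Dominates B (bmap B L M₁) W := fun W hW => by
      refine ⟨fun r => ?_, fun r hr => ?_⟩
      · show algebraMap M M₁ (algebraMap L M (algebraMap B L r)) ∈ W
        rw [hcompat]; exact hW.1 _
      · show W.valuation (algebraMap M M₁ (algebraMap L M (algebraMap B L r))) < 1
        rw [hcompat]; exact hW.2 _ (map_nonunit (algebraMap B C) r hr)
    have hall : ∀ W : ValuationSubring M₁, EtRam.Dominates C ((algebraMap M M₁).comp (algebraMap C M)) W →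
        Module.finrank L M₁ = e * e ∧ 0 < W.valuation x ∧ W.valuation x < 1 ∧
          ∀ z : M₁, z ≠ 0 → ∃ n : ℤ, W.valuation z = W.valuation x ^ n := fun W hW => by
      obtain ⟨hyp, -, hx1⟩ := hyp_of_root hπB hp.one_lt hx' (hWB W hW)
      obtain ⟨d, hd⟩ := exists_unit_residue hπB hexp hgM₁ hx' (hWB W hW)
      obtain ⟨h1, h2⟩ := val_eq_zpow hπB hp hyp hd hβ (hdimL ▸ Nat.mul_le_mul_left e hmin)
      exact ⟨h1, hyp.val_x_pos hπB hp.ne_zero, hx1, h2⟩
    obtain ⟨W, hW⟩ := exists_dominates C M₁ ((algebraMap M M₁).comp (algebraMap C M))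
    have hnat : (minpoly M x).natDegree = e := Nat.eq_of_mul_eq_mul_left hp.pos (hdimL ▸ (hall W hW).1)
    refine ⟨?_, fun W hW => (hall W hW).2⟩
    have : fK.map (algebraMap K M) = minpoly M x :=
      eq_of_monic_of_dvd_of_natDegree_le (minpoly.monic hint) hfM (minpoly.dvd M x hxM)
        (by rw [hfK.natDegree_map, hnK, hnat])
    exact this ▸ minpoly.irreducible hint
  have hirrM : Irreducible (fK.map (algebraMap K M)) := by
    obtain ⟨r, hr⟩ := IsAlgClosed.exists_aeval_eq_zero Ω (fK.map (algebraMap K M)) (by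
      rw [degree_eq_natDegree (hfK.map _).ne_zero, hfK.natDegree_map, hnK]; exact_mod_cast hp.ne_zero)
    let M₁ := IntermediateField.adjoin M {r}
    refine (key M₁ (IntermediateField.AdjoinSimple.gen M r) ?_ ?_).1
    · have : aeval (IntermediateField.AdjoinSimple.gen M r) (fK.map (algebraMap K M)) = 0 := by
        apply (algebraMap M₁ Ω).injective
        rw [← aeval_algebraMap_apply, IntermediateField.AdjoinSimple.algebraMap_gen, hr, map_zero]
      rwa [aeval_map_algebraMap] at this
    · apply IntermediateField.map_injective (IntermediateField.val M₁)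
      rw [IntermediateField.adjoin_map, Set.image_singleton, ← AlgHom.fieldRange_eq_map, IntermediateField.fieldRange_val]
      rfl
  have hirrK : Irreducible fK := hfK.irreducible_of_irreducible_map (algebraMap K M) _ hirrM
  haveI : Fact (Irreducible fK) := ⟨hirrK⟩
  have hirrL : Irreducible (fK.map (algebraMap K L)) := (hfK.map _).irreducible_of_irreducible_map (algebraMap L M) _
    (by rwa [Polynomial.map_map, ← IsScalarTower.algebraMap_eq])
  haveI : FiniteDimensional K (AdjoinRoot fK) := (AdjoinRoot.powerBasis hfK.ne_zero).finite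
  have hfin : Module.finrank K (AdjoinRoot fK) = e := by
    rw [(AdjoinRoot.powerBasis hfK.ne_zero).finrank, AdjoinRoot.powerBasis_dim, hnK]
  have hsep : fK.Separable := by
    refine (separable_iff_derivative_ne_zero hirrK).mpr fun h => ?_
    have h0 := congrArg (fun q => q.coeff 0) h
    simp only [coeff_derivative, coeff_zero, Nat.cast_zero, zero_add, mul_one] at h0
    simp [fK, fA, coeff_X_pow, coeff_C, hp.ne_one.symm] at h0
    rw [← Polynomial.C_pow, coeff_C_zero] at h0
    exact hπA.ne_zero (IsFractionRing.injective A K ((pow_eq_zero_iff (by omega)).mp h0 |>.trans (map_zero _).symm))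
  refine ⟨AdjoinRoot fK, inferInstance, inferInstance, hfin, ?_, ?_, isField_tensor_adjoinRoot fK hirrL,
    isField_tensor_adjoinRoot fK hirrM, ?_⟩
  · have h1 : IsSeparable K (AdjoinRoot.root fK) := by
      refine hsep.of_dvd ?_
      rw [AdjoinRoot.minpoly_root hfK.ne_zero, hfK.leadingCoeff, inv_one, map_one, mul_one]
    have h2 := (IntermediateField.isSeparable_adjoin_simple_iff_isSeparable K _).mpr h1
    have h3 : IntermediateField.adjoin K {AdjoinRoot.root fK} = ⊤ := by
      rw [eq_top_iff]
      intro z _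
      have hz : z ∈ Algebra.adjoin K {AdjoinRoot.root fK} := AdjoinRoot.adjoinRoot_eq_top (f := fK) ▸ Algebra.mem_top
      exact IntermediateField.algebra_adjoin_le_adjoin K _ hz
    rw [h3] at h2
    exact Algebra.IsSeparable.of_algHom K _ (IntermediateField.topEquiv (F := K) (E := AdjoinRoot fK)).symm.toAlgHom
  · refine isTotallyRamified_root (x := AdjoinRoot.root fK) hπA hp.one_lt hfin (N := w + 1) ?_
    have h1 : aeval (AdjoinRoot.root fK) fK = 0 := by rw [AdjoinRoot.aeval_eq, AdjoinRoot.mk_self]
    simpa [fK, fA] using h1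
  · intro M₁ _ _ _ _ _ _ hgen W hW
    set x := algebraMap (AdjoinRoot fK) M₁ (AdjoinRoot.root fK)
    have hx : aeval x fK = 0 := by
      rw [aeval_algebraMap_apply, AdjoinRoot.aeval_eq, AdjoinRoot.mk_self, map_zero]
    have htop : IntermediateField.adjoin M {x} = ⊤ := by
      rw [eq_top_iff]
      intro z _
      have hsub : Algebra.adjoin M (Set.range (algebraMap (AdjoinRoot fK) M₁)) ≤
          (IntermediateField.adjoin M {x}).toSubalgebra := by
        refine Algebra.adjoin_le ?_
        rintro _ ⟨r, rfl⟩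
        obtain ⟨q, rfl⟩ := AdjoinRoot.mk_surjective r
        rw [← AdjoinRoot.aeval_eq, ← aeval_algebraMap_apply, ← aeval_map_algebraMap M]
        exact IntermediateField.algebra_adjoin_le_adjoin M _ (aeval_mem_adjoin_singleton M x)
      exact hsub (hgen ▸ Algebra.mem_top)
    obtain ⟨h0, h1, hall⟩ := (key M₁ x hx htop).2 W hW
    exact isWeaklyUnramified_of_val W (algebraMap (AdjoinRoot fK) M₁) _ h0 h1 hall

end Groth.Agent.EtTrichotomy
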