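import Groth.Prelude.Def_EtRam
import Mathlib

/-!
# Expansions in a uniformizer `x` with `x ^ p ≡ π`

Let `B` be a DVR with fraction field `L` and uniformizer `π`, `M` an extension of `L` with a valuation
subring dominating `B`, `x ∈ M` with `x ^ p = π u` for a unit `u ≡ 1`, and `d ∈ M` with `d ^ p ≡ β`, where
the residue of `β` is no `p`-th power.  Then nonzero combinations `∑ lᵢⱼ xⁱ dʲ` have valuation a power of
that of `x`.
-/

set_option autoImplicit false

open IsLocalRing

namespace Groth.Agent.EtTrichotomy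

universe u

variable {B L M : Type u} [CommRing B] [IsDomain B] [IsDiscreteValuationRing B]
  [Field L] [Algebra B L] [IsFractionRing B L] [Field M] [Algebra L M]

variable (B L) in
/-- The structure map of `B` in `M`. -/
abbrev bmap (M : Type u) [Field M] [Algebra L M] : B →+* M := (algebraMap L M).comp (algebraMap B L)

/-- The data of a root of `π` up to a principal unit, seen by a valuation subring dominating `B`. -/
structure Hyp (π : B) (p : ℕ) (x : M) (W : ValuationSubring M) : Prop where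
  dom : EtRam.Dominates B (bmap B L M) W
  root : W.valuation (x ^ p / bmap B L M π - 1) < 1

theorem bmap_injective : Function.Injective (bmap B L M) :=
  (algebraMap L M).injective.comp (IsFractionRing.injective B L)

theorem exists_unit_zpow {π : B} (hπ : Irreducible π) {l : L} (hl : l ≠ 0) :
    ∃ (b : B) (k : ℤ), IsUnit b ∧ l = algebraMap B L b * algebraMap B L π ^ k := by
  obtain ⟨a, c, hc, rfl⟩ := IsFractionRing.div_surjective B l
  have hc0 : c ≠ 0 := nonZeroDivisors.ne_zero hc
  have ha0 : a ≠ 0 := fun h => hl (by simp [h])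
  obtain ⟨m, u, rfl⟩ := IsDiscreteValuationRing.eq_unit_mul_pow_irreducible ha0 hπ
  obtain ⟨n, v, rfl⟩ := IsDiscreteValuationRing.eq_unit_mul_pow_irreducible hc0 hπ
  have hπ0 : algebraMap B L π ≠ 0 :=
    fun h => hπ.ne_zero (IsFractionRing.injective B L (h.trans (map_zero _).symm))
  refine ⟨((u * v⁻¹ : Bˣ) : B), (m : ℤ) - n, (u * v⁻¹).isUnit, ?_⟩
  have hv : algebraMap B L (v : B) * algebraMap B L ((v⁻¹ : Bˣ) : B) = 1 := by
    rw [← map_mul, Units.mul_inv, map_one]
  rw [map_mul, map_mul, map_pow, map_pow, Units.val_mul, map_mul, zpow_sub₀ hπ0, zpow_natCast, zpow_natCast]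
  rw [eq_inv_of_mul_eq_one_right hv]
  field_simp

namespace Hyp

variable {π : B} {p : ℕ} {x : M} {W : ValuationSubring M} (h : Hyp (L := L) π p x W)
include h

theorem val_b_le (b : B) : W.valuation (bmap B L M b) ≤ 1 :=
  (W.valuation_le_one_iff _).mpr (h.dom.1 b)

theorem val_unit {b : B} (hb : IsUnit b) : W.valuation (bmap B L M b) = 1 := by
  obtain ⟨c, hc⟩ := hb.exists_right_inv
  refine le_antisymm (h.val_b_le b) (not_lt.mp fun hlt => ?_)
  have := mul_lt_one_of_lt_of_le hlt (h.val_b_le c)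
  rw [← map_mul, ← map_mul, hc, map_one, map_one] at this
  exact lt_irrefl _ this

theorem val_x_pow : W.valuation x ^ p = W.valuation (bmap B L M π) := by
  have h1 : W.valuation (x ^ p / bmap B L M π) = 1 := by
    rw [← sub_add_cancel (x ^ p / bmap B L M π) 1, W.valuation.map_add_eq_of_lt_right (by rw [map_one]; exact h.root),
      map_one]
  rw [map_div₀, map_pow] at h1
  exact eq_of_div_eq_one h1

theorem x_ne_zero (hπ : Irreducible π) (hp : p ≠ 0) : x ≠ 0 := by
  rintro rfl
  have h1 := h.val_x_pow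
  rw [map_zero, zero_pow hp, eq_comm, map_eq_zero, map_eq_zero_iff _ bmap_injective] at h1
  exact hπ.ne_zero h1

theorem val_x_lt (hπ : Irreducible π) (hp : p ≠ 0) : W.valuation x < 1 := by
  by_contra hx
  have h1 : 1 ≤ W.valuation x ^ p := one_le_pow₀ (not_lt.mp hx)
  rw [h.val_x_pow] at h1
  exact not_lt.mpr h1 (h.dom.2 π ((mem_maximalIdeal _).2 hπ.not_isUnit))

theorem val_x_pos (hπ : Irreducible π) (hp : p ≠ 0) : 0 < W.valuation x :=
  pos_of_ne_zero ((map_ne_zero W.valuation).mpr (h.x_ne_zero hπ hp))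

theorem val_term (hp : p ≠ 0) (hπ : Irreducible π) {b : B} (hb : IsUnit b) (k : ℤ) (i : ℕ) :
    W.valuation (algebraMap L M (algebraMap B L b * algebraMap B L π ^ k) * x ^ i) =
      W.valuation x ^ ((p : ℤ) * k + i) := by
  have hx := (h.val_x_pos hπ hp).ne'
  rw [map_mul, map_mul, map_mul, map_zpow₀, map_zpow₀, map_pow]
  show W.valuation (bmap B L M b) * W.valuation (bmap B L M π) ^ k * W.valuation x ^ i = _
  rw [h.val_unit hb, one_mul, ← h.val_x_pow,
    zpow_add₀ hx, zpow_mul, zpow_natCast, zpow_natCast]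

theorem root_zpow (hπ : Irreducible π) (k : ℤ) :
    W.valuation ((bmap B L M π / x ^ p) ^ k - 1) < 1 := by
  set e := x ^ p / bmap B L M π
  have he1 : W.valuation e = 1 := by
    rw [← sub_add_cancel e 1, W.valuation.map_add_eq_of_lt_right (by rw [map_one]; exact h.root), map_one]
  have hnat : ∀ n : ℕ, W.valuation (e ^ n - 1) < 1 := fun n => by
    induction n with
    | zero => simp
    | succ n ih =>
      rw [show e ^ (n + 1) - 1 = (e ^ n - 1) * e + (e - 1) by ring]
      exact W.valuation.map_add_lt (by rw [map_mul, he1, mul_one]; exact ih) h.root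
  have hinv : bmap B L M π / x ^ p = e⁻¹ := (inv_div _ _).symm
  rw [hinv]
  have he0 : e ≠ 0 := fun h0 => by rw [h0, map_zero] at he1; exact zero_ne_one he1
  obtain ⟨n, rfl | rfl⟩ := Int.eq_nat_or_neg k
  · rw [zpow_natCast, inv_pow, show (e ^ n)⁻¹ - 1 = -((e ^ n - 1) / e ^ n) by field_simp; ring,
      Valuation.map_neg, map_div₀, map_pow, he1, one_pow, div_one]
    exact hnat n
  · rw [zpow_neg, inv_zpow, inv_inv, zpow_natCast]
    exact hnat n

end Hyp

/-- A nonzero combination of `1, x, …, x^{p-1}` is `xⁿ` times a unit congruent to an element of `B`. -/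
theorem exists_leading {π : B} (hπ : Irreducible π) {p : ℕ} (hp : p ≠ 0) (x : M) (l : Fin p → L)
    (hl : ∃ i, l i ≠ 0) :
    ∃ (n : ℤ) (b : B), IsUnit b ∧ (0 ≤ n → ∀ i, ∃ a : B, algebraMap B L a = l i) ∧
      ∀ W : ValuationSubring M, Hyp (L := L) π p x W →
      W.valuation (∑ i, algebraMap L M (l i) * x ^ (i : ℕ)) = W.valuation x ^ n ∧
      W.valuation ((∑ i, algebraMap L M (l i) * x ^ (i : ℕ)) / x ^ n - bmap B L M b) < 1 := by
  classical
  have key : ∀ i, ∃ (b : B) (k : ℤ), IsUnit b ∧ (l i ≠ 0 → l i = algebraMap B L b * algebraMap B L π ^ k) :=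
    fun i => by
      rcases eq_or_ne (l i) 0 with h | h
      · exact ⟨1, 0, isUnit_one, fun h' => (h' h).elim⟩
      · obtain ⟨b, k, hb, e⟩ := exists_unit_zpow hπ h
        exact ⟨b, k, hb, fun _ => e⟩
  choose b k hb hlk using key
  let deg : Fin p → ℤ := fun i => (p : ℤ) * k i + (i : ℕ)
  obtain ⟨i₀, hi₀, hmin⟩ := Finset.exists_min_image (Finset.univ.filter fun i => l i ≠ 0) deg
    (by obtain ⟨i, hi⟩ := hl; exact ⟨i, by simp [hi]⟩)
  rw [Finset.mem_filter] at hi₀
  have hdeg : ∀ i, l i ≠ 0 → i ≠ i₀ → deg i₀ < deg i := fun i hi hne => by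
    refine lt_of_le_of_ne (hmin i (by simp [hi])) fun e => hne (Fin.ext ?_)
    have h1 := congrArg (· % (p : ℤ)) e
    simp only [deg, Int.mul_add_emod_self_left] at h1
    rw [Int.emod_eq_of_lt (by positivity) (by exact_mod_cast i₀.isLt),
      Int.emod_eq_of_lt (by positivity) (by exact_mod_cast i.isLt)] at h1
    exact_mod_cast h1.symm
  refine ⟨deg i₀, b i₀, hb i₀, fun hn i => ?_, fun W h => ?_⟩
  · by_cases hi : l i = 0
    · exact ⟨0, by rw [map_zero, hi]⟩
    · have h1 : 0 ≤ deg i := hn.trans (hmin i (by simp [hi]))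
      have h2 : 0 ≤ k i := by
        by_contra hk
        have h3 : (p : ℤ) * k i ≤ (p : ℤ) * (-1) := mul_le_mul_of_nonneg_left (by omega) (by positivity)
        have h4 := i.isLt
        simp only [deg] at h1
        omega
      obtain ⟨m, hm⟩ := Int.eq_ofNat_of_zero_le h2
      exact ⟨b i * π ^ m, by rw [hlk i hi, hm, map_mul, map_pow, zpow_natCast]⟩
  have hx0 := h.x_ne_zero hπ hp
  have hval : ∀ i, l i ≠ 0 → W.valuation (algebraMap L M (l i) * x ^ (i : ℕ)) = W.valuation x ^ deg i :=
    fun i hi => by rw [hlk i hi]; exact h.val_term hp hπ (hb i) (k i) i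
  have hrest : W.valuation (∑ i ∈ Finset.univ.erase i₀, algebraMap L M (l i) * x ^ (i : ℕ)) <
      W.valuation x ^ deg i₀ := by
    refine W.valuation.map_sum_lt (zpow_ne_zero _ (h.val_x_pos hπ hp).ne') fun i hi => ?_
    rcases eq_or_ne (l i) 0 with hi0 | hi0
    · rw [hi0, map_zero, zero_mul, map_zero]
      exact zpow_pos (h.val_x_pos hπ hp) _
    · rw [hval i hi0]
      exact zpow_lt_zpow_right_of_lt_one₀ (h.val_x_pos hπ hp) (h.val_x_lt hπ hp)
        (hdeg i hi0 (Finset.ne_of_mem_erase hi))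
  have hv0 := hval i₀ hi₀.2
  rw [← Finset.add_sum_erase _ _ (Finset.mem_univ i₀)]
  constructor
  · rw [W.valuation.map_add_eq_of_lt_left (hv0 ▸ hrest), hv0]
  · rw [add_div, add_sub_right_comm]
    refine W.valuation.map_add_lt ?_ ?_
    · have e : algebraMap L M (l i₀) * x ^ (i₀ : ℕ) / x ^ deg i₀ =
          bmap B L M (b i₀) * (bmap B L M π / x ^ p) ^ k i₀ := by
        rw [hlk i₀ hi₀.2, map_mul, map_zpow₀, zpow_add₀ hx0, zpow_mul, zpow_natCast, zpow_natCast, div_zpow,
          RingHom.comp_apply, RingHom.comp_apply]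
        field_simp
      rw [e, ← mul_sub_one, map_mul, h.val_unit (hb i₀), one_mul]
      exact h.root_zpow hπ _
    · rw [map_div₀, map_zpow₀, div_lt_one₀ (zpow_pos (h.val_x_pos hπ hp) _)]
      exact hrest

/-- Adding an element `d` whose `p`-th power is residually no `p`-th power keeps the value group. -/
theorem exists_leading₂ {π : B} (hπ : Irreducible π) {p : ℕ} (hp : p.Prime) {x d : M} {W : ValuationSubring M}
    (h : Hyp (L := L) π p x W) {β : B} (hd : W.valuation (d ^ p - bmap B L M β) < 1)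
    (hβ : ∀ δ : B, β - δ ^ p ∉ maximalIdeal B) (l : Fin p × Fin p → L) (hl : ∃ q, l q ≠ 0) :
    ∃ n : ℤ, W.valuation (∑ q, algebraMap L M (l q) * x ^ (q.1 : ℕ) * d ^ (q.2 : ℕ)) = W.valuation x ^ n := by
  classical
  have hx0 := h.x_ne_zero hπ hp.ne_zero
  have hxpos := h.val_x_pos hπ hp.ne_zero
  have hxlt := h.val_x_lt hπ hp.ne_zero
  let e : Fin p → M := fun j => ∑ i, algebraMap L M (l (i, j)) * x ^ (i : ℕ)
  let J := Finset.univ.filter fun j => ∃ i, l (i, j) ≠ 0
  have key : ∀ j ∈ J, ∃ (n : ℤ) (b : B), IsUnit b ∧ W.valuation (e j) = W.valuation x ^ n ∧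
      W.valuation (e j / x ^ n - bmap B L M b) < 1 := fun j hj => by
    obtain ⟨n, b, hb, -, hW⟩ := exists_leading hπ hp.ne_zero x (fun i => l (i, j)) (Finset.mem_filter.mp hj).2
    exact ⟨n, b, hb, hW W h⟩
  choose! n b hb hn hb' using key
  obtain ⟨⟨i, j⟩, hij⟩ := hl
  obtain ⟨j₀, hj₀, hmin⟩ := Finset.exists_min_image J n ⟨j, by simpa [J] using ⟨i, hij⟩⟩
  set m := n j₀
  -- reduce the normalised sum to the residue field
  have hdW : d ∈ W := by
    rw [← W.valuation_le_one_iff]
    by_contra hd1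
    have h1 : 1 < W.valuation d ^ p := one_lt_pow₀ (not_le.mp hd1) hp.ne_zero
    have h2 := W.valuation.map_add_le hd.le (h.val_b_le β)
    rw [sub_add_cancel, map_pow] at h2
    exact not_lt.mpr h2 h1
  let i : B →+* W := (bmap B L M).codRestrict W.toSubring h.dom.1
  have : IsLocalHom i := ⟨fun a ha => by
    by_contra hna
    exact (mem_maximalIdeal _).1 ((W.valuation_lt_one_iff _).2 (h.dom.2 a ((mem_maximalIdeal _).2 hna))) ha⟩
  letI : Algebra (ResidueField B) (ResidueField W) := (ResidueField.map i).toAlgebra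
  have hres : ∀ (w : W) (a : B), W.valuation ((w : M) - bmap B L M a) < 1 →
      residue W w = algebraMap (ResidueField B) (ResidueField W) (residue B a) := fun w a hw => by
    show residue W w = residue W (i a)
    rw [← sub_eq_zero, ← map_sub, residue_eq_zero_iff, W.valuation_lt_one_iff]
    exact hw
  set r := residue W ⟨d, hdW⟩
  have hr : Polynomial.aeval r (Polynomial.X ^ p - Polynomial.C (residue B β)) = 0 := by
    simp only [map_sub, map_pow, Polynomial.aeval_X, Polynomial.aeval_C, sub_eq_zero]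
    rw [← map_pow]
    exact hres _ β hd
  have hirr : Irreducible (Polynomial.X ^ p - Polynomial.C (residue B β)) :=
    X_pow_sub_C_irreducible_of_prime hp fun a ha => by
      obtain ⟨δ, rfl⟩ := residue_surjective a
      refine hβ δ ?_
      rw [← residue_eq_zero_iff, map_sub, map_pow, ha, sub_self]
  have hdeg : (minpoly (ResidueField B) r).natDegree = p := by
    rw [← minpoly.eq_of_irreducible_of_monic hirr hr (Polynomial.monic_X_pow_sub_C _ hp.ne_zero),
      Polynomial.natDegree_X_pow_sub_C]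
  have hterm : ∀ j, W.valuation (e j / x ^ m) ≤ 1 ∧
      ∃ a : B, W.valuation (e j / x ^ m - bmap B L M a) < 1 ∧ (j = j₀ → IsUnit a) := fun j => by
    by_cases hj : j ∈ J
    · rcases (hmin j hj).eq_or_lt with hjm | hjm
      · refine ⟨?_, b j, hjm ▸ hb' j hj, fun _ => hb j hj⟩
        rw [map_div₀, map_zpow₀, hn j hj, ← hjm, div_self (zpow_ne_zero _ hxpos.ne')]
      · have : W.valuation (e j / x ^ m) < 1 := by
          rw [map_div₀, map_zpow₀, hn j hj, div_lt_one₀ (zpow_pos hxpos _)]
          exact zpow_lt_zpow_right_of_lt_one₀ hxpos hxlt hjm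
        exact ⟨this.le, 0, by rwa [map_zero, sub_zero], fun e => absurd (e ▸ hjm) (lt_irrefl _)⟩
    · have h0 : e j = 0 := Finset.sum_eq_zero fun i _ => by
        have : l (i, j) = 0 := by
          by_contra hne
          exact hj (Finset.mem_filter.mpr ⟨Finset.mem_univ _, i, hne⟩)
        rw [this, map_zero, zero_mul]
      exact ⟨by simp [h0], 0, by simp [h0], fun e => absurd (e ▸ hj₀) hj⟩
  choose a ha hau using fun j => (hterm j).2
  let w : Fin p → W := fun j => ⟨e j / x ^ m, (W.valuation_le_one_iff _).mp (hterm j).1⟩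
  refine ⟨m, ?_⟩
  have hsum : ∑ q : Fin p × Fin p, algebraMap L M (l q) * x ^ (q.1 : ℕ) * d ^ (q.2 : ℕ) =
      x ^ m * ((∑ j, w j * ⟨d, hdW⟩ ^ (j : ℕ) : W) : M) := by
    rw [← Finset.univ_product_univ, Finset.sum_product_right]
    push_cast
    rw [Finset.mul_sum]
    refine Finset.sum_congr rfl fun j _ => ?_
    simp only [w, e]
    rw [← mul_assoc, mul_div_cancel₀ _ (zpow_ne_zero _ hx0), Finset.sum_mul]
  rw [hsum, map_mul, map_zpow₀]
  suffices IsUnit (∑ j, w j * (⟨d, hdW⟩ : W) ^ (j : ℕ)) by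
    rw [(W.valuation_eq_one_iff _).mp this, mul_one]
  rw [← notMem_maximalIdeal, ← residue_eq_zero_iff, map_sum]
  intro h0
  have hlin := linearIndependent_pow (K := ResidueField B) r
  rw [hdeg] at hlin
  have := Fintype.linearIndependent_iff.mp hlin (fun j => residue B (a j)) (by
    rw [← h0]
    refine Finset.sum_congr rfl fun j _ => ?_
    rw [Algebra.smul_def, map_mul, map_pow, hres (w j) (a j) (ha j)]) j₀
  exact (residue_ne_zero_iff_isUnit _).mpr (hau j₀ rfl) this

end Groth.Agent.EtTrichotomy
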