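import Groth.Agent.EtTrichotomy.Expand
import Groth.Agent.EtTrichotomy.Approx

/-!
# The trichotomy for a purely inseparable extension of degree `p` over a weakly unramified extension
-/

set_option autoImplicit false

open IsLocalRing Polynomial
open scoped TensorProduct

namespace Groth.Agent.EtTrichotomy

universe u

section Generic

variable {B L M : Type u} [CommRing B] [IsDomain B] [IsDiscreteValuationRing B]
  [Field L] [Algebra B L] [IsFractionRing B L] [Field M] [Algebra L M]

theorem exists_dominates (B M : Type u) [CommRing B] [IsLocalRing B] [Field M] (g : B →+* M) :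
    ∃ W : ValuationSubring M, EtRam.Dominates B g W := by
  obtain ⟨W, hW, hloc⟩ := IsLocalRing.exists_factor_valuationRing g
  exact ⟨W, hW, fun a ha => (W.valuation_lt_one_iff ⟨g a, hW a⟩).1
    ((mem_maximalIdeal _).2 fun hu => (mem_maximalIdeal _).1 ha (hloc.map_nonunit a hu))⟩

/-- A root of `X ^ p - π ^ N X - π` satisfies the hypothesis of the expansions. -/
theorem hyp_of_root {π : B} (hπ : Irreducible π) {p : ℕ} (hp : 1 < p) {N : ℕ} {x : M}
    (hx : x ^ p - bmap B L M π ^ (N + 1) * x - bmap B L M π = 0) {W : ValuationSubring M}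
    (hW : EtRam.Dominates B (bmap B L M) W) :
    Hyp (L := L) π p x W ∧ x ^ p = bmap B L M π * (1 + bmap B L M π ^ N * x) ∧ W.valuation x < 1 := by
  set P := bmap B L M π
  have hP : W.valuation P < 1 := hW.2 π ((mem_maximalIdeal _).2 hπ.not_isUnit)
  have hP0 : P ≠ 0 := fun h => hπ.ne_zero (bmap_injective (h.trans (map_zero _).symm))
  have heq : x ^ p = P * (1 + P ^ N * x) := by linear_combination hx
  have hx1 : W.valuation x ≤ 1 := by
    by_contra hgt
    rw [not_le] at hgt
    have h1 : W.valuation (P ^ (N + 1) * x) < W.valuation (x ^ p) := by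
      rw [map_mul, map_pow, map_pow]
      calc W.valuation P ^ (N + 1) * W.valuation x ≤ 1 * W.valuation x := by
            gcongr; exact pow_le_one₀ zero_le hP.le
        _ = W.valuation x ^ 1 := by rw [one_mul, pow_one]
        _ < W.valuation x ^ p := pow_lt_pow_right₀ hgt hp
    have h2 : W.valuation P = W.valuation (x ^ p) := by
      rw [show P = x ^ p - P ^ (N + 1) * x by linear_combination -hx, W.valuation.map_sub_eq_of_lt_left h1]
    have h3 : 1 < W.valuation (x ^ p) := by rw [map_pow]; exact one_lt_pow₀ hgt (by omega)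
    exact lt_asymm hP (h2 ▸ h3)
  have hlt : W.valuation x < 1 := by
    refine lt_of_le_of_ne hx1 fun h1 => ?_
    have h2 : W.valuation (x ^ p) < 1 := by
      rw [heq, map_mul]
      refine mul_lt_one_of_lt_of_le hP (W.valuation.map_add_le (by rw [map_one]) ?_)
      rw [map_mul, map_pow, h1, mul_one]
      exact pow_le_one₀ zero_le hP.le
    rw [map_pow, h1, one_pow] at h2
    exact lt_irrefl _ h2
  refine ⟨⟨hW, ?_⟩, heq, hlt⟩
  rw [heq, mul_div_cancel_left₀ _ hP0, add_sub_cancel_left, map_mul, map_pow]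
  exact mul_lt_one_of_nonneg_of_lt_one_right (pow_le_one₀ zero_le hP.le) zero_le hlt

/-- The powers of `x` are linearly independent. -/
theorem linearIndependent_pow_root {π : B} (hπ : Irreducible π) {p : ℕ} (hp : p ≠ 0) {x : M}
    {W : ValuationSubring M} (h : Hyp (L := L) π p x W) :
    LinearIndependent L fun i : Fin p => x ^ (i : ℕ) := by
  rw [Fintype.linearIndependent_iff]
  intro l hl
  by_contra! hne
  obtain ⟨n, _, -, -, hW⟩ := exists_leading hπ hp x l hne
  have h1 := (hW W h).1
  simp only [Algebra.smul_def] at hl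
  rw [hl, map_zero] at h1
  exact zpow_ne_zero n (h.val_x_pos hπ hp).ne' h1.symm

theorem eq_sum_pow {π : B} (hπ : Irreducible π) {p : ℕ} (hp : p ≠ 0) {x : M} {W : ValuationSubring M}
    (h : Hyp (L := L) π p x W) [FiniteDimensional L M] (hdim : Module.finrank L M = p) (z : M) :
    ∃ l : Fin p → L, z = ∑ i, algebraMap L M (l i) * x ^ (i : ℕ) := by
  haveI : Nonempty (Fin p) := ⟨⟨0, Nat.pos_of_ne_zero hp⟩⟩
  let bs := basisOfLinearIndependentOfCardEqFinrank (linearIndependent_pow_root hπ hp h)
    (by rw [Fintype.card_fin, hdim])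
  refine ⟨fun i => bs.repr z i, ?_⟩
  conv_lhs => rw [← bs.sum_repr z]
  refine Finset.sum_congr rfl fun i _ => ?_
  rw [Algebra.smul_def]
  simp [bs]

/-- The `p²` monomials span, and every nonzero element has valuation a power of that of `x`. -/
theorem val_eq_zpow {π : B} (hπ : Irreducible π) {p : ℕ} (hp : p.Prime) {x d : M} {W : ValuationSubring M}
    (h : Hyp (L := L) π p x W) {β : B} (hd : W.valuation (d ^ p - bmap B L M β) < 1)
    (hβ : ∀ δ : B, β - δ ^ p ∉ maximalIdeal B) [FiniteDimensional L M] (hdim : Module.finrank L M ≤ p * p) :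
    Module.finrank L M = p * p ∧ ∀ z : M, z ≠ 0 → ∃ n : ℤ, W.valuation z = W.valuation x ^ n := by
  have hind : LinearIndependent L fun q : Fin p × Fin p => x ^ (q.1 : ℕ) * d ^ (q.2 : ℕ) := by
    rw [Fintype.linearIndependent_iff]
    intro l hl
    by_contra! hne
    obtain ⟨n, hn⟩ := exists_leading₂ hπ hp h hd hβ l hne
    simp only [Algebra.smul_def, ← mul_assoc] at hl
    rw [hl, map_zero] at hn
    exact zpow_ne_zero n (h.val_x_pos hπ hp.ne_zero).ne' hn.symm
  have hcard : Module.finrank L M = p * p := le_antisymm hdim (by simpa using hind.fintype_card_le_finrank)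
  haveI : Nonempty (Fin p × Fin p) := ⟨(⟨0, hp.pos⟩, ⟨0, hp.pos⟩)⟩
  refine ⟨hcard, fun z hz => ?_⟩
  let bs := basisOfLinearIndependentOfCardEqFinrank hind (by simp [hcard])
  have hne : ∃ q, bs.repr z q ≠ 0 := by
    by_contra! h0
    exact hz (bs.repr.injective (by ext q; simp [h0 q]))
  obtain ⟨n, hn⟩ := exists_leading₂ hπ hp h hd hβ (fun q => bs.repr z q) hne
  refine ⟨n, ?_⟩
  rw [← hn]
  conv_lhs => rw [← bs.sum_repr z]
  congr 1
  refine Finset.sum_congr rfl fun q _ => ?_
  rw [Algebra.smul_def, mul_assoc]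
  simp [bs]

theorem nonneg_of_zpow_le_one {Γ : Type*} [LinearOrderedCommGroupWithZero Γ] {g : Γ} (h0 : 0 < g) (h1 : g < 1)
    {n : ℤ} (h : g ^ n ≤ 1) : 0 ≤ n := by
  by_contra hn
  rw [← zpow_zero g] at h
  exact not_lt.mpr h (zpow_lt_zpow_right_of_lt_one₀ h0 h1 (not_le.mp hn))

theorem zpow_le_one' {Γ : Type*} [LinearOrderedCommGroupWithZero Γ] {g : Γ} (h1 : g ≤ 1)
    {n : ℤ} (h : 0 ≤ n) : g ^ n ≤ 1 := by
  lift n to ℕ using h
  rw [zpow_natCast]
  exact pow_le_one₀ zero_le h1

end Generic

/-- The base change to an extension `E` over which the polynomial stays irreducible is a field. -/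
theorem isField_tensor_adjoinRoot {K E : Type u} [Field K] [Field E] [Algebra K E] (f : K[X]) [Fact (Irreducible f)]
    (hE : Irreducible (f.map (algebraMap K E))) : IsField (E ⊗[K] AdjoinRoot f) := by
  haveI : Fact (Irreducible (f.map (algebraMap K E))) := ⟨hE⟩
  have hf : f ≠ 0 := (Fact.out : Irreducible f).ne_zero
  let F := AdjoinRoot (f.map (algebraMap K E))
  have hroot : aeval (AdjoinRoot.root (f.map (algebraMap K E)) : F) f = 0 := by
    rw [← aeval_map_algebraMap E, AdjoinRoot.aeval_eq, AdjoinRoot.mk_self]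
  let j : AdjoinRoot f →ₐ[K] F := AdjoinRoot.liftAlgHom f (Algebra.ofId K F) _ hroot
  let φ : E ⊗[K] AdjoinRoot f →ₐ[E] F :=
    Algebra.TensorProduct.lift (Algebra.ofId E F) j fun _ _ => Commute.all _ _
  have hsurj : Function.Surjective φ := by
    rw [← AlgHom.range_eq_top, eq_top_iff, ← AdjoinRoot.adjoinRoot_eq_top, Algebra.adjoin_le_iff,
      Set.singleton_subset_iff]
    exact ⟨1 ⊗ₜ AdjoinRoot.root f, by simp [φ, j]⟩
  haveI : FiniteDimensional K (AdjoinRoot f) := (AdjoinRoot.powerBasis hf).finite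
  haveI : FiniteDimensional E F := (AdjoinRoot.powerBasis hE.ne_zero).finite
  have hdim : Module.finrank E (E ⊗[K] AdjoinRoot f) = Module.finrank E F := by
    rw [Module.finrank_baseChange, (AdjoinRoot.powerBasis hf).finrank, (AdjoinRoot.powerBasis hE.ne_zero).finrank,
      AdjoinRoot.powerBasis_dim, AdjoinRoot.powerBasis_dim, natDegree_map]
  have hinj : Function.Injective φ :=
    (LinearMap.injective_iff_surjective_of_finrank_eq_finrank hdim).mpr hsurj
  exact MulEquiv.isField (Field.toIsField F) (AlgEquiv.ofBijective φ ⟨hinj, hsurj⟩).toMulEquiv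

/-- `x` generates the maximal ideal, hence the extension is weakly unramified over any subfield containing it. -/
theorem isWeaklyUnramified_of_val {K₁ M : Type u} [Field K₁] [Field M] (W : ValuationSubring M) (f : K₁ →+* M)
    (r : K₁) (hr0 : 0 < W.valuation (f r)) (hr1 : W.valuation (f r) < 1)
    (hall : ∀ z : M, z ≠ 0 → ∃ n : ℤ, W.valuation z = W.valuation (f r) ^ n) :
    letI : Algebra (W.comap f) W := (EtRam.inclOfComap W f).toAlgebra
    EtRam.IsWeaklyUnramified (W.comap f) W := by
  letI : Algebra (W.comap f) W := (EtRam.inclOfComap W f).toAlgebra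
  unfold EtRam.IsWeaklyUnramified
  refine le_antisymm (Ideal.map_le_iff_le_comap.2 fun v hv => map_nonunit (EtRam.inclOfComap W f) v hv)
    fun z hz => ?_
  let rr : W.comap f := ⟨r, (W.valuation_le_one_iff _).mp hr1.le⟩
  have hrr : rr ∈ maximalIdeal (W.comap f) := (mem_maximalIdeal _).2 fun hu =>
    (mem_maximalIdeal _).1 ((W.valuation_lt_one_iff (EtRam.inclOfComap W f rr)).2 hr1) (hu.map (EtRam.inclOfComap W f))
  rcases eq_or_ne (z : M) 0 with h0 | h0
  · rw [show z = 0 from Subtype.ext h0]; exact zero_mem _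
  obtain ⟨n, hn⟩ := hall z h0
  have hlt := (W.valuation_lt_one_iff z).1 hz
  rw [hn] at hlt
  have hn1 : 1 ≤ n := by
    by_contra hn1
    have h2 : W.valuation (f r) ^ (-n) ≤ 1 := zpow_le_one' hr1.le (by omega)
    rw [zpow_neg] at h2
    exact not_lt.mpr ((inv_le_one₀ (zpow_pos hr0 _)).mp h2) hlt
  have hmem : (z : M) / f r ∈ W := by
    rw [← W.valuation_le_one_iff, map_div₀, hn, div_le_one₀ hr0]
    calc W.valuation (f r) ^ n = W.valuation (f r) ^ (1 : ℤ) * W.valuation (f r) ^ (n - 1) := by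
          rw [← zpow_add₀ hr0.ne']; congr 1; omega
      _ ≤ W.valuation (f r) * 1 := by
          rw [zpow_one]; gcongr; exact zpow_le_one' hr1.le (by omega)
      _ = W.valuation (f r) := mul_one _
  have hz' : z = algebraMap (W.comap f) W rr * ⟨_, hmem⟩ :=
    Subtype.ext (mul_div_cancel₀ (z : M) ((map_ne_zero W.valuation).mp hr0.ne')).symm
  rw [hz']
  exact Ideal.mul_mem_right _ _ (Ideal.mem_map_of_mem _ hrr)

/-- The extension `K(x)`, `x ^ p - π ^ (N+1) x = π`, is totally ramified. -/
theorem isTotallyRamified_root {A K K₁ : Type u} [CommRing A] [IsDomain A] [IsDiscreteValuationRing A] [Field K]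
    [Algebra A K] [IsFractionRing A K] [Field K₁] [Algebra K K₁] [FiniteDimensional K K₁] {π : A} (hπ : Irreducible π)
    {p : ℕ} (hp : 1 < p) (hdim : Module.finrank K K₁ = p) {N : ℕ} {x : K₁}
    (hx : x ^ p - bmap A K K₁ π ^ (N + 1) * x - bmap A K K₁ π = 0) :
    EtRam.IsTotallyRamified A ((algebraMap K K₁).comp (algebraMap A K)) := by
  have hp0 : p ≠ 0 := by omega
  refine ⟨exists_dominates A K₁ _, ?_, ?_⟩
  · intro V V' hV hV'
    obtain ⟨h, -, h1⟩ := hyp_of_root hπ hp hx hV
    obtain ⟨h', -, h1'⟩ := hyp_of_root hπ hp hx hV'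
    ext z
    rw [← V.valuation_le_one_iff, ← V'.valuation_le_one_iff]
    rcases eq_or_ne z 0 with rfl | hz
    · simp
    obtain ⟨l, rfl⟩ := eq_sum_pow hπ hp0 h hdim z
    obtain ⟨n, _, -, -, hW⟩ := exists_leading hπ hp0 x l (by
      by_contra! h0; exact hz (Finset.sum_eq_zero fun i _ => by rw [h0 i, map_zero, zero_mul]))
    rw [(hW V h).1, (hW V' h').1]
    exact ⟨fun e => zpow_le_one' h1'.le (nonneg_of_zpow_le_one (h.val_x_pos hπ hp0) h1 e),
      fun e => zpow_le_one' h1.le (nonneg_of_zpow_le_one (h'.val_x_pos hπ hp0) h1' e)⟩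
  · intro V hV r
    obtain ⟨z, rfl⟩ := residue_surjective r
    by_cases hz : z ∈ maximalIdeal V
    · exact ⟨0, by simp [(residue_eq_zero_iff _).mpr hz]⟩
    obtain ⟨h, -, h1⟩ := hyp_of_root hπ hp hx hV
    obtain ⟨l, hl⟩ := eq_sum_pow hπ hp0 h hdim (z : K₁)
    obtain ⟨n, b, -, -, hW⟩ := exists_leading hπ hp0 x l (by
      by_contra! h0
      refine hz ?_
      rw [show z = 0 from Subtype.ext (hl.trans (Finset.sum_eq_zero fun i _ => by rw [h0 i, map_zero, zero_mul]))]
      exact zero_mem _)
    obtain ⟨hv, hb⟩ := hW V h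
    rw [← hl] at hv hb
    have hv1 : V.valuation (z : K₁) = 1 := (V.valuation_eq_one_iff z).1 (notMem_maximalIdeal.1 hz)
    have hn : n = 0 := by
      rw [hv1] at hv
      rcases lt_trichotomy n 0 with hn | hn | hn
      · exact absurd (nonneg_of_zpow_le_one (h.val_x_pos hπ hp0) h1 hv.ge) (by omega)
      · exact hn
      · have h2 := zpow_lt_zpow_right_of_lt_one₀ (h.val_x_pos hπ hp0) h1 hn
        rw [zpow_zero, ← hv] at h2
        exact absurd h2 (lt_irrefl _)
    rw [hn, zpow_zero, div_one] at hb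
    refine ⟨b, ?_⟩
    rw [← sub_eq_zero, ← map_sub, residue_eq_zero_iff, V.valuation_lt_one_iff]
    show V.valuation (bmap A K K₁ b - (z : K₁)) < 1
    rwa [Valuation.map_sub_swap]

end Groth.Agent.EtTrichotomy
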